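import Groth.Agent.S2102
import Groth.Agent.S9821
import Groth.Prelude.Def_ClSub2

/-!
# Morphisms with `O_Y = f_* O_X`
-/

set_option backward.isDefEq.respectTransparency false
set_option linter.style.haveILetI false

universe u

open CategoryTheory AlgebraicGeometry TopologicalSpace Opposite

namespace Groth.Agent.PosLinX

variable {X Y : Scheme.{u}} (f : X ⟶ Y)

theorem app_bijective (hfs : IsIso (ClSub.unitToPush f)) (U : Y.Opens) : Function.Bijective (f.app U) := by
  haveI := hfs
  have h : IsIso ((ClSub.unitToPush f).app U) := inferInstance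
  exact (ConcreteCategory.isIso_iff_bijective ((ClSub.unitToPush f).app U)).1 h

theorem isNormalScheme_of_fibreSpace [IsIntegral X] [IsIntegral Y] (hfs : IsIso (ClSub.unitToPush f))
    (hX : Pi1.IsNormalScheme X) : Pi1.IsNormalScheme Y := by
  refine (Groth.Agent.S9821.result Y).2 fun U _ hU => ?_
  let V : X.Opens := f ⁻¹ᵁ U
  have hb := app_bijective f hfs U
  haveI : Nontrivial Γ(X, V) := by
    haveI : Nontrivial Γ(Y, U) := inferInstance
    exact hb.1.nontrivial
  haveI : Nonempty V := by
    by_contra hc
    have : V = ⊥ := by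
      ext x
      simpa using fun hx => hc ⟨⟨x, hx⟩⟩
    have hs : Subsingleton Γ(X, V) := by rw [this]; infer_instance
    exact false_of_nontrivial_of_subsingleton Γ(X, V)
  haveI : Nonempty V.toScheme := ‹Nonempty V›
  haveI : IsIntegral V.toScheme := isIntegral_of_isOpenImmersion V.ι
  have hVn : Pi1.IsNormalScheme V.toScheme := fun x => by
    let e : X.presheaf.stalk (V.ι x) ≃+* V.toScheme.presheaf.stalk x :=
      (asIso (V.ι.stalkMap x)).commRingCatIsoToRingEquiv
    haveI := (hX (V.ι x)).2
    exact ⟨e.symm.toMulEquiv.isDomain _, IsIntegrallyClosed.of_equiv e⟩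
  haveI := Groth.Agent.S2102.result _ hVn
  let e₁ : Γ(Y, U) ≃+* Γ(V.toScheme, ⊤) :=
    (RingEquiv.ofBijective (f.app U).hom hb).trans V.topIso.symm.commRingCatIsoToRingEquiv
  exact IsIntegrallyClosed.of_equiv e₁.symm

end Groth.Agent.PosLinX
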