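import Groth.Agent.AmpleX.Generated
import Groth.Agent.AmpleVan.Tw
import Groth.Agent.Lib.InvEnd
import Groth.Agent.CurveCohLib.Skyscraper
import Mathlib.AlgebraicGeometry.Properties

/-!
# Invertible modules with a nonzero section on an integral scheme
-/

set_option backward.isDefEq.respectTransparency false
set_option backward.isDefEq.respectTransparency.types false
set_option linter.style.haveILetI false

universe u

open CategoryTheory CategoryTheory.Limits AlgebraicGeometry TopologicalSpace Opposite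
open Groth.Agent.H23.PicMul

namespace Groth.Agent.PosLinX

open Groth.Agent

variable {X : Scheme.{u}}

/-- `M` has a nonzero global section. -/
def HasSec (M : X.Modules) : Prop := ∃ s : Coh.structureModule X ⟶ M, s ≠ 0

theorem HasSec.of_genLocus [IsIntegral X] {M : X.Modules} (s : Coh.structureModule X ⟶ M) {x : X}
    (hx : x ∈ CohB1.genLocus M s) : HasSec M := by
  refine ⟨s, fun h => ?_⟩
  obtain ⟨U, hxU, hU⟩ := InvX.mem_genLocus hx
  haveI : Nonempty U := ⟨⟨x, hxU⟩⟩
  have h0 : InvX.one s = 0 := by rw [h]; rfl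
  exact one_ne_zero (hU.coord_unique le_rfl (r := (1 : Γ(X, U))) (r' := 0) (by
    rw [AModX.res_self, h0, map_zero, one_smul, zero_smul]))

theorem exists_mem_genLocus [IsIntegral X] {M : X.Modules} (hM : PicF.IsInvertible M)
    {s : Coh.structureModule X ⟶ M} (hs : s ≠ 0) : ∃ x : X, x ∈ CohB1.genLocus M s := by
  by_contra hcon
  push Not at hcon
  have h0 : InvX.one s = 0 := by
    refine AModX.eq_of_locally _ _ fun p _ => ?_
    obtain ⟨U, hpU, e, he⟩ := InvX.exists_frame hM p
    obtain ⟨g, hg⟩ := he.exists_coord le_rfl (AModX.res M (le_top : U ≤ ⊤) (InvX.one s))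
    rw [AModX.res_self] at hg
    have hb := InvX.genLocus_inf s he hg
    have hg0 : g = 0 := (basicOpen_eq_bot_iff g).1 (by
      rw [← hb]
      refine Opens.ext (Set.ext fun y => ?_)
      simpa using fun hy => absurd hy (hcon y))
    exact ⟨U, le_top, hpU, by rw [hg, hg0, zero_smul, map_zero]⟩
  refine hs (Scheme.Modules.hom_ext _ _ fun W => AddCommGrpCat.hom_ext (AddMonoidHom.ext fun r => ?_))
  refine (InvX.app_eq_smul s (show Γ(X, W) from r)).trans ?_
  rw [h0, map_zero, smul_zero]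
  rfl

theorem HasSec.of_cl [IsIntegral X] {A B : X.Modules} (hA : PicF.IsInvertible A)
    (h : PicF.cl A = PicF.cl B) (hs : HasSec A) : HasSec B := by
  obtain ⟨s, hs⟩ := hs
  obtain ⟨x, hx⟩ := exists_mem_genLocus hA hs
  obtain ⟨t, ht⟩ := AmpleX.exists_section_of_cl_eq h s
  exact HasSec.of_genLocus t (ht.symm ▸ hx)

theorem HasSec.tensor [IsIntegral X] {A B : X.Modules} (hA : PicF.IsInvertible A) (hB : PicF.IsInvertible B)
    (h : HasSec A) (h' : HasSec B) : HasSec (CohB1.tensorMod A B) := by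
  obtain ⟨s, hs⟩ := h
  obtain ⟨t, ht⟩ := h'
  obtain ⟨x, hx⟩ := exists_mem_genLocus hA hs
  obtain ⟨y, hy⟩ := exists_mem_genLocus hB ht
  obtain ⟨z, hz⟩ := nonempty_preirreducible_inter (CohB1.genLocus A s).isOpen
    (CohB1.genLocus B t).isOpen ⟨x, hx⟩ ⟨y, hy⟩
  refine HasSec.of_genLocus (InvX.mulHom s t) (x := z) ?_
  rw [InvX.genLocus_mulHom hA hB]
  exact hz

theorem hasSec_structureModule [IsIntegral X] : HasSec (Coh.structureModule X) := by
  refine HasSec.of_genLocus (𝟙 _) (x := genericPoint X)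
    ((InvX.le_genLocus (U := ⊤) (𝟙 _) ?_) (Opens.mem_top _))
  rw [AModX.res_self]
  exact InvX.isFrame_one ⊤

theorem HasSec.pow [IsIntegral X] {A : X.Modules} (hA : PicF.IsInvertible A) (h : HasSec A) :
    ∀ n, HasSec (CohB1.tensorPow A n)
  | 0 => hasSec_structureModule
  | n + 1 => HasSec.tensor (InvX.isInvertible_tensorPow hA n) hA (HasSec.pow hA h n) h

theorem exists_pow_hasSec [IsIntegral X] {A : X.Modules} (hA : CohB1.IsAmple A) :
    ∃ m : ℕ, 0 < m ∧ HasSec (CohB1.tensorPow A m) := by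
  obtain ⟨m, hm, s, hx, -⟩ := (AmpleX.isAmple_iff.1 hA).2.2 (genericPoint X)
  exact ⟨m, hm, HasSec.of_genLocus s hx⟩

/-- Tensoring with an invertible module preserves nonzero morphisms. -/
theorem tw_map_ne_zero {P M N : X.Modules} (hP : PicF.IsInvertible P) {f : M ⟶ N} (hf : f ≠ 0) :
    (AmpleVan.tw P).map f ≠ 0 := by
  haveI := AmpleVan.isEquivalence_tw hP
  exact fun h => hf ((AmpleVan.tw P).map_injective (by rw [h, Functor.map_zero]))

theorem mono_tw_map {P M N : X.Modules} (hP : PicF.IsInvertible P) (f : M ⟶ N) [Mono f] :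
    Mono ((AmpleVan.tw P).map f) := by
  haveI := AmpleVan.isEquivalence_tw hP
  infer_instance

/-- A section composed with a monomorphism. -/
theorem HasSec.comp_mono {M N : X.Modules} (f : M ⟶ N) [Mono f] (h : HasSec M) : HasSec N := by
  obtain ⟨s, hs⟩ := h
  exact ⟨s ≫ f, fun hc => hs ((cancel_mono f).1 (hc.trans zero_comp.symm))⟩

theorem nontrivial_HH_zero {M : X.Modules} (h : HasSec M) : Nontrivial (Coh.HH X M 0) := by
  obtain ⟨s, hs⟩ := h
  have h1 : InvX.one s ≠ 0 := fun h0 => hs (Scheme.Modules.hom_ext _ _ fun W =>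
    AddCommGrpCat.hom_ext (AddMonoidHom.ext fun r => by
      refine (InvX.app_eq_smul s (show Γ(X, W) from r)).trans ?_
      rw [h0, map_zero, smul_zero]
      rfl))
  haveI : Nontrivial ↑((Coh.toAb M).obj.obj (op ⊤)) := ⟨⟨InvX.one s, 0, h1⟩⟩
  exact (Sheaf.H.equiv₀ (Coh.toAb M) isTerminalTop).toEquiv.nontrivial

theorem hasSec_of_nontrivial_HH_zero {M : X.Modules} (h : Nontrivial (Coh.HH X M 0)) : HasSec M := by
  haveI : Nontrivial Γ(M, ⊤) := (Sheaf.H.equiv₀ (Coh.toAb M) isTerminalTop).symm.toEquiv.nontrivial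
  obtain ⟨t, ht⟩ := exists_ne (0 : Γ(M, ⊤))
  exact ⟨InvX.ofSect t, fun h0 => ht (by rw [← InvX.one_ofSect t, h0]; rfl)⟩

theorem hasSec_of_generated [IsIntegral X] {M : X.Modules} (hM : PicF.IsInvertible M)
    (hg : Curv2.IsGloballyGenerated M) : HasSec M := by
  obtain ⟨ι, p, hp⟩ := hg
  by_contra hc
  have hp0 : p = 0 := Sigma.hom_ext _ _ fun j => by
    rw [comp_zero]
    by_contra h
    exact hc ⟨_, h⟩
  subst hp0
  have hid : 𝟙 M = 0 := (cancel_epi (0 : (∐ fun _ : ι => Coh.structureModule X) ⟶ M)).1 (by simp)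
  obtain ⟨U, hxU, e, he⟩ := InvX.exists_frame hM (genericPoint X)
  haveI : Nonempty U := ⟨⟨_, hxU⟩⟩
  have he0 : e = 0 := congrArg (fun f => f.app U e) hid
  exact one_ne_zero (he.coord_unique le_rfl (r := (1 : Γ(X, U))) (r' := 0) (by
    rw [AModX.res_self, he0, one_smul, zero_smul]))

end Groth.Agent.PosLinX
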